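import Groth.Agent.L17.OpenTransfer
import Groth.Agent.L10.Spectral.Vanishing
import Groth.Agent.L10.Spectral.GenClosed
import Mathlib.Algebra.Homology.ShortComplex.ExactFunctor
import Mathlib.Algebra.Homology.DerivedCategory.Ext.Map
import Mathlib.AlgebraicGeometry.Morphisms.QuasiSeparated

/-! # Top cohomology restricts surjectively to open subschemes -/

set_option autoImplicit false
set_option linter.style.haveILetI false
set_option linter.unusedSectionVars false
set_option backward.isDefEq.respectTransparency false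
set_option maxHeartbeats 800000

universe u

open CategoryTheory CategoryTheory.Limits CategoryTheory.Abelian AlgebraicGeometry Opposite TopologicalSpace

noncomputable section

namespace Groth.L21.TopDeg

open Groth.L17 (restrAb)

variable {X Y : Scheme.{u}} (j : X ⟶ Y) [IsOpenImmersion j]

theorem preserves_restrAb :
    PreservesFiniteLimits (restrAb j) ∧ PreservesFiniteColimits (restrAb j) :=
  ((Functor.exact_tfae (restrAb j)).out 0 3).1 fun _ hS => Groth.L17.shortExact_restrAb j hS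

instance : PreservesFiniteLimits (restrAb j) := (preserves_restrAb j).1

instance : PreservesFiniteColimits (restrAb j) := (preserves_restrAb j).2

/-- The constant sheaf of integers. -/
abbrev Z (X : Scheme.{u}) : CohTop.Ab X.toTopCat :=
  (constantSheaf (Opens.grothendieckTopology X) AddCommGrpCat.{u}).obj (AddCommGrpCat.of (ULift.{u} ℤ))

/-- The open is top. -/
def topT (X : Scheme.{u}) : IsTerminal (⊤ : Opens X) :=
  IsTerminal.ofUniqueHom (fun _ => homOfLE le_top) (fun _ _ => Subsingleton.elim _ _)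

/-- The unit section of the constant sheaf, restricted. -/
def c : Z X ⟶ (restrAb j).obj (Z Y) :=
  Ext.addEquiv₀ ((Sheaf.H.equiv₀ ((restrAb j).obj (Z Y)) (topT X)).symm
    ((Z Y).obj.map (homOfLE (le_top : j ''ᵁ (⊤ : X.Opens) ≤ ⊤)).op
      (Sheaf.H.equiv₀ (Z Y) (topT Y) (Ext.mk₀ (𝟙 (Z Y))))))

theorem c_spec : Sheaf.H.equiv₀ ((restrAb j).obj (Z Y)) (topT X) (Ext.mk₀ (c j)) =
    (Z Y).obj.map (homOfLE (le_top : j ''ᵁ (⊤ : X.Opens) ≤ ⊤)).op
      (Sheaf.H.equiv₀ (Z Y) (topT Y) (Ext.mk₀ (𝟙 (Z Y)))) := by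
  rw [c, show ∀ z, Ext.mk₀ (Ext.addEquiv₀ (X := Z X) (Y := (restrAb j).obj (Z Y)) z) = z from
    Ext.addEquiv₀.symm_apply_apply, AddEquiv.apply_symm_apply]

/-- Restriction of cohomology classes. -/
def rmap (F : CohTop.Ab Y.toTopCat) (n : ℕ) :
    CohTop.H F n →+ CohTop.H (X := X.toTopCat) ((restrAb j).obj F) n :=
  AddMonoidHom.mk' (fun x => (Ext.mk₀ (c j)).comp (x.mapExactFunctor (restrAb j)) (zero_add n)) fun x y => by
    rw [Ext.mapExactFunctor_add, Ext.comp_add]

theorem rmap_apply (F : CohTop.Ab Y.toTopCat) (n : ℕ) (x : CohTop.H F n) :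
    rmap j F n x = (Ext.mk₀ (c j)).comp (x.mapExactFunctor (restrAb j)) (zero_add n) := rfl

theorem rmap_map {F G : CohTop.Ab Y.toTopCat} (φ : F ⟶ G) (n : ℕ) (x : CohTop.H F n) :
    rmap j G n (Sheaf.H.map φ n x) = Sheaf.H.map ((restrAb j).map φ) n (rmap j F n x) := by
  rw [rmap_apply, rmap_apply, Sheaf.H.map_apply, Sheaf.H.map_apply, Ext.mapExactFunctor_comp,
    Ext.mapExactFunctor_mk₀]
  exact (Ext.comp_assoc_of_third_deg_zero _ _ _ _).symm

theorem rmap_zero_eq (F : CohTop.Ab Y.toTopCat) (x : CohTop.H F 0) :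
    Sheaf.H.equiv₀ ((restrAb j).obj F) (topT X) (rmap j F 0 x) =
      F.obj.map (homOfLE (le_top : j ''ᵁ (⊤ : X.Opens) ≤ ⊤)).op (Sheaf.H.equiv₀ F (topT Y) x) := by
  obtain ⟨a, rfl⟩ := (Ext.mk₀_bijective _ _).2 x
  have h1 : rmap j F 0 (Ext.mk₀ a) = Sheaf.H.map ((restrAb j).map a) 0 (Ext.mk₀ (c j)) := by
    rw [rmap_apply, Ext.mapExactFunctor_mk₀, Sheaf.H.map_apply]
  have h2 : (Ext.mk₀ a : CohTop.H F 0) = Sheaf.H.map a 0 (Ext.mk₀ (𝟙 (Z Y))) := by
    rw [Sheaf.H.map_apply, Ext.mk₀_comp_mk₀]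
    exact congrArg Ext.mk₀ (Category.id_comp a).symm
  refine (congrArg _ h1).trans (((Sheaf.H.equiv₀_naturality (topT X) _ _).symm.trans
    (congrArg _ (c_spec j))).trans ?_)
  refine Eq.trans ?_ (congrArg _ ((Sheaf.H.equiv₀_naturality (topT Y) a _).trans (congrArg _ h2.symm)))
  exact NatTrans.naturality_apply a.hom _ _

theorem rmap_extClass {S : ShortComplex (CohTop.Ab Y.toTopCat)} (hS : S.ShortExact) (n : ℕ)
    (x : CohTop.H S.X₃ n) :
    rmap j S.X₁ (n + 1) (x.comp hS.extClass rfl) =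
      haveI := (preserves_restrAb j).1
      haveI := (preserves_restrAb j).2
      (rmap j S.X₃ n x).comp (hS.map_of_exact (restrAb j)).extClass rfl := by
  rw [rmap_apply, rmap_apply, Ext.mapExactFunctor_comp, Ext.mapExactFunctor_extClass]
  exact (Ext.comp_assoc _ _ _ (zero_add n) rfl (by omega)).symm

section Spectral

variable [CompactSpace Y] [QuasiSeparatedSpace Y] [CompactSpace X] [QuasiSeparatedSpace X]

open Groth.L10.Spectral in
theorem surjective_rmap_aux {d : ℕ} (hd : topologicalKrullDim Y ≤ d) : ∀ (m k : ℕ), k + m = d + 1 →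
    ∀ F : CohTop.Ab Y.toTopCat, Supp k F → ∀ n : ℕ, n + k = d → Function.Surjective (rmap j F n) := by
  haveI : SpectralSpace ↑Y.toTopCat := show SpectralSpace ↥Y from {}
  haveI : SpectralSpace ↑X.toTopCat := show SpectralSpace ↥X from {}
  haveI : CompactSpace ↑X.toTopCat := ‹CompactSpace ↥X›
  haveI : PrespectralSpace ↑Y.toTopCat := inferInstance
  haveI : QuasiSeparatedSpace ↑X.toTopCat := ‹QuasiSeparatedSpace ↥X›
  haveI := (preserves_restrAb j).1
  haveI := (preserves_restrAb j).2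
  intro m
  induction m with
  | zero => intro k hk F _ n hn; omega
  | succ m ih =>
    intro k hk F hF n hn x
    have hS := consSeq_shortExact F
    have hq : Groth.L10.GenClosed.QcFlasque (X := X.toTopCat) ((restrAb j).obj (cons F)) := fun V hV =>
      surjective_cons_map F (Scheme.Hom.image_mono j le_top) (hV.image j.continuous)
    cases n with
    | zero =>
      have hz := isZero_cokernel_of_dim F hd (show Supp d F from (show k = d by omega) ▸ hF)
      haveI := mono_toCons F
      haveI : Epi (toCons F) := Abelian.epi_of_cokernel_π_eq_zero _ (hz.eq_of_tgt _ _)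
      haveI : IsIso (toCons F) := isIso_of_mono_of_epi _
      obtain ⟨t, ht⟩ := surjective_cons_map F (le_top : j ''ᵁ (⊤ : X.Opens) ≤ ⊤) (isCompact_univ.image j.continuous)
        ((toCons F).hom.app (op (j ''ᵁ (⊤ : X.Opens))) (Sheaf.H.equiv₀ ((restrAb j).obj F) (topT X) x))
      refine ⟨(Sheaf.H.equiv₀ F (topT Y)).symm ((inv (toCons F)).hom.app (op ⊤) t),
        (Sheaf.H.equiv₀ ((restrAb j).obj F) (topT X)).injective ?_⟩
      rw [rmap_zero_eq, AddEquiv.apply_symm_apply, ← NatTrans.naturality_apply, ht, ← ConcreteCategory.comp_apply]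
      exact congr($(IsIso.hom_inv_id (toCons F)).hom.app (op (j ''ᵁ (⊤ : X.Opens)))
        (Sheaf.H.equiv₀ ((restrAb j).obj F) (topT X) x))
    | succ n =>
      have hac := Groth.L10.GenClosed.subsingleton_H_of_qcFlasque (X := X.toTopCat) _ hq n
      obtain ⟨y, rfl⟩ := Ext.covariant_sequence_exact₁ _ (hS.map_of_exact (restrAb j)) x
        (@Subsingleton.elim _ hac _ _) (n₀ := n) rfl
      obtain ⟨w, rfl⟩ := ih (k + 1) (by omega) _ (supp_cokernel F hF) n (by omega) y
      exact ⟨w.comp hS.extClass rfl, rmap_extClass j hS n w⟩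

/-- In the top degree restriction to an open subscheme is surjective. -/
theorem surjective_rmap {d : ℕ} (hd : topologicalKrullDim Y ≤ d) (F : CohTop.Ab Y.toTopCat) :
    Function.Surjective (rmap j F d) :=
  surjective_rmap_aux j hd (d + 1) 0 (zero_add _) F (Groth.L10.Spectral.supp_zero F) d (add_zero _)

end Spectral

theorem smulAb_restrict (M : Y.Modules) (r : Γ(Y, ⊤)) :
    (restrAb j).map (Coh.smulAb M r) = Coh.smulAb (M.restrict j) (j.appTop r) := by
  refine Sheaf.hom_ext (NatTrans.ext (funext fun V => AddCommGrpCat.hom_ext (AddMonoidHom.ext fun x => ?_)))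
  show (Coh.resTop Y (op (j ''ᵁ V.unop)) r) • (show M.val.obj (op (j ''ᵁ V.unop)) from x) =
    ((j.appIso V.unop).inv (Coh.resTop X V (j.appTop r)) : Γ(Y, j ''ᵁ V.unop)) •
      (show M.val.obj (op (j ''ᵁ V.unop)) from x)
  congr 1
  have : j.appTop ≫ X.presheaf.map (homOfLE (le_top : V.unop ≤ ⊤)).op ≫ (j.appIso V.unop).inv =
      Y.presheaf.map (homOfLE (le_top : j ''ᵁ V.unop ≤ ⊤)).op := by
    rw [← Category.assoc, Iso.comp_inv_eq, Scheme.Hom.appIso_hom', Scheme.Hom.map_appLE]
    simp only [Scheme.Hom.appTop, Scheme.Hom.app_eq_appLE, Scheme.Hom.appLE_map]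
  exact congr($(this) r).symm

end Groth.L21.TopDeg
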