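import Groth.Agent.L13.Nagata.Affine
import Groth.Agent.L22.SchemeDim
import Groth.Agent.L21.TopDeg.Restr
import Mathlib.AlgebraicGeometry.Noetherian
import Mathlib.Topology.NoetherianSpace

/-! # Compactifications of the same dimension -/

set_option autoImplicit false
set_option linter.style.haveILetI false
set_option backward.isDefEq.respectTransparency false

universe u

open CategoryTheory CategoryTheory.Limits AlgebraicGeometry Opposite TopologicalSpace

namespace Groth.L21.TopDeg

variable (k : Type u) [Field k]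

theorem dim_le_of_dense {X Y : Scheme.{u}} [Y.Over (Spec (CommRingCat.of k))]
    [LocallyOfFiniteType (Y ↘ Spec (CommRingCat.of k))] (j : X ⟶ Y) [IsOpenImmersion j] [IsDominant j]
    [NoetherianSpace X] : topologicalKrullDim Y ≤ topologicalKrullDim X := by
  have hfin : (irreducibleComponents X).Finite := NoetherianSpace.finite_irreducibleComponents
  have hgen : ∀ T ∈ irreducibleComponents X, ∃ η : X, IsGenericPoint η T := fun T hT =>
    QuasiSober.sober hT.1 (isClosed_of_mem_irreducibleComponents T hT)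
  choose g hg using hgen
  let C : Set Y := ⋃ T ∈ hfin.toFinset.attach, closure {j (g T.1 (hfin.mem_toFinset.1 T.2))}
  have hC : IsClosed C := (Finset.finite_toSet _).isClosed_biUnion fun _ _ => isClosed_closure
  have hCu : C = Set.univ := by
    refine Set.eq_univ_of_univ_subset ?_
    rw [← j.denseRange.closure_range]
    refine closure_minimal ?_ hC
    rintro _ ⟨x, rfl⟩
    have hT := irreducibleComponent_mem_irreducibleComponents x
    refine Set.mem_iUnion₂.2 ⟨⟨_, hfin.mem_toFinset.2 hT⟩, Finset.mem_attach _ _, ?_⟩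
    exact specializes_iff_mem_closure.1
      (((hg _ hT).specializes mem_irreducibleComponent).map j.continuous)
  refine iSup_le fun l => ?_
  obtain ⟨η, hη⟩ := QuasiSober.sober l.last.isIrreducible l.last.isClosed
  obtain ⟨T, -, hmem⟩ := Set.mem_iUnion₂.1 (hCu.symm.subset (Set.mem_univ η))
  set x := g T.1 (hfin.mem_toFinset.1 T.2)
  have hall : ∀ i, (l i : Set Y) ⊆ closure {j x} := fun i =>
    (show (l i : Set Y) ⊆ l.last from l.monotone (Fin.le_last i)).trans
      ((hη.def.symm.subset).trans (closure_minimal (by simpa using hmem) isClosed_closure))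
  obtain ⟨n, hn, htr⟩ := Groth.L22.SchemeDim.exists_dim_closure_eq_trdeg k Y (j x)
  obtain ⟨_, ⟨W, hW, rfl⟩, hxW, hWj⟩ :=
    Y.isBasis_affineOpens.exists_subset_of_mem_open (show j x ∈ Set.range j from ⟨x, rfl⟩)
      j.isOpenEmbedding.isOpen_range
  obtain ⟨m, hm, htr'⟩ := Groth.L22.SchemeDim.exists_dim_quotient_eq_trdeg k Y hW hxW
  have hmn : m = n := by exact_mod_cast htr'.symm.trans htr
  subst hmn
  have h1 : (m : WithBot ℕ∞) ≤ topologicalKrullDim X := by
    rw [← hm, ← Groth.L22.SchemeDim.topologicalKrullDim_closure_inter hW hxW]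
    refine (Groth.L22.SchemeDim.topologicalKrullDim_mono (Set.inter_subset_right.trans hWj)).trans (le_of_eq ?_)
    exact Groth.L22.SchemeDim.topologicalKrullDim_eq_of_isEmbedding j.isEmbedding rfl
  refine le_trans ?_ h1
  rw [← hn]
  let F : Fin (l.length + 1) → IrreducibleCloseds (closure ({j x} : Set Y)) := fun i =>
    { carrier := Subtype.val ⁻¹' (l i : Set Y)
      isIrreducible' := by
        obtain ⟨z, hz⟩ := (l i).isIrreducible.nonempty
        refine ⟨⟨⟨z, hall i hz⟩, hz⟩, fun u v hu hv hsu hsv => ?_⟩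
        obtain ⟨u', hu', rfl⟩ := isOpen_induced_iff.1 hu
        obtain ⟨v', hv', rfl⟩ := isOpen_induced_iff.1 hv
        obtain ⟨a, ha, ha'⟩ := hsu
        obtain ⟨b, hb, hb'⟩ := hsv
        obtain ⟨w, hw, hwu, hwv⟩ := (l i).isIrreducible.isPreirreducible u' v' hu' hv' ⟨a.1, ha, ha'⟩ ⟨b.1, hb, hb'⟩
        exact ⟨⟨w, hall i hw⟩, hw, hwu, hwv⟩
      isClosed' := (l i).isClosed.preimage continuous_subtype_val }
  have hmono : StrictMono F := fun i i' hii => by
    obtain ⟨hle, hne⟩ := l.strictMono hii |>.le, l.strictMono hii |>.ne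
    refine lt_of_le_of_ne (fun z hz => hle hz) fun h => hne (SetLike.ext fun z => ?_)
    refine ⟨fun hz => hle hz, fun hz => ?_⟩
    have hz' : (⟨z, hall i' hz⟩ : closure ({j x} : Set Y)) ∈ (F i' : Set _) := hz
    rw [← h] at hz'
    exact hz'
  exact Order.LTSeries.length_le_krullDim (LTSeries.mk l.length F hmono)

/-- Separated schemes of finite type have compactifications of the same dimension. -/
theorem exists_model {X : Scheme.{u}} (f : X ⟶ Spec (CommRingCat.of k)) [IsSeparated f] [LocallyOfFiniteType f]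
    [QuasiCompact f] (d : ℕ) (hd : topologicalKrullDim X ≤ d) :
    ∃ (Y : Scheme.{u}) (j : X ⟶ Y) (p : Y ⟶ Spec (CommRingCat.of k)),
      IsOpenImmersion j ∧ IsProper p ∧ j ≫ p = f ∧ topologicalKrullDim Y ≤ d := by
  obtain ⟨Y, j, p, hj, hqc, hp, hjp⟩ := Groth.L13.Nagata.exists_compactification f
  haveI := hj; haveI := hqc; haveI := hp
  let e : X ≅ (j.opensRange : Scheme.{u}) := j.isoOpensRange
  haveI : IsClosedImmersion e.hom := inferInstance
  obtain ⟨ho, -⟩ := Groth.L13.Nagata.toImage_openImmersion j j.opensRange e.hom (Scheme.Hom.isoOpensRange_hom_ι j)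
  haveI := ho
  haveI : IsProper (j.imageι ≫ p) := inferInstance
  have hc : j.toImage ≫ j.imageι ≫ p = f := by rw [Scheme.Hom.toImage_imageι_assoc, hjp]
  refine ⟨j.image, j.toImage, j.imageι ≫ p, ho, inferInstance, hc, ?_⟩
  letI : j.image.Over (Spec (CommRingCat.of k)) := ⟨j.imageι ≫ p⟩
  haveI : LocallyOfFiniteType (j.image ↘ Spec (CommRingCat.of k)) :=
    inferInstanceAs (LocallyOfFiniteType (j.imageι ≫ p))
  haveI : IsLocallyNoetherian X := LocallyOfFiniteType.isLocallyNoetherian f
  haveI : CompactSpace X := QuasiCompact.compactSpace_of_compactSpace f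
  haveI : AlgebraicGeometry.IsNoetherian X := {}
  exact (dim_le_of_dense k j.toImage).trans hd

end Groth.L21.TopDeg
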