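import Groth.Agent.L21.TopDeg.Model
import Groth.Agent.L28.EtCartan.Frobenius

/-! # Artin-Schreier surjectivity in the top degree -/

set_option autoImplicit false
set_option linter.style.haveILetI false
set_option backward.isDefEq.respectTransparency false
set_option backward.isDefEq.respectTransparency.types false

universe u

open CategoryTheory CategoryTheory.Limits AlgebraicGeometry Opposite TopologicalSpace
open Groth.L28.EtCartan (frobAb frobH powHom)

noncomputable section

namespace Groth.L21.TopDeg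

variable {X Y : Scheme.{u}} (j : X ⟶ Y) [IsOpenImmersion j]

/-- Restriction of the structure sheaf. -/
def oIso : (Groth.L17.restrAb j).obj (Coh.toAb (Coh.structureModule Y)) ≅ Coh.toAb (Coh.structureModule X) :=
  (fullyFaithfulSheafToPresheaf _ _).preimageIso (NatIso.ofComponents
    (fun V => ((forget₂ CommRingCat RingCat ⋙ forget₂ RingCat AddCommGrpCat).mapIso (j.appIso V.unop)))
    (fun {U V} f => by
      refine ConcreteCategory.hom_ext _ _ fun x => ?_
      exact congr($(Scheme.Hom.appIso_hom_naturality j f) x)))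

theorem frob_oIso (p : ℕ) (hp : p.Prime) (hX : (p : Γ(X, ⊤)) = 0) (hY : (p : Γ(Y, ⊤)) = 0) :
    (Groth.L17.restrAb j).map (frobAb p hp hY) ≫ (oIso j).hom = (oIso j).hom ≫ frobAb p hp hX :=
  Sheaf.hom_ext (NatTrans.ext (funext fun V => ConcreteCategory.hom_ext _ _ fun x =>
    map_pow (j.appIso V.unop).hom.hom (show Γ(Y, j ''ᵁ V.unop) from x) p))

theorem surjective_as_top (k : Type u) [Field k] [IsSepClosed k] (p : ℕ) [Fact p.Prime] [CharP k p]
    (f : X ⟶ Spec (CommRingCat.of k)) [IsSeparated f] [LocallyOfFiniteType f] [QuasiCompact f]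
    (d : ℕ) (hd : topologicalKrullDim X ≤ d) (hX : (p : Γ(X, ⊤)) = 0)
    (y : Coh.HH X (Coh.structureModule X) d) : ∃ x, frobH p Fact.out hX d x - x = y := by
  obtain ⟨Y, j, q, hj, hq, hjq, hY⟩ := exists_model k f d hd
  haveI := hj
  haveI := hq
  letI : Y.Over (Spec (CommRingCat.of k)) := ⟨q⟩
  haveI : IsProper (Y ↘ Spec (CommRingCat.of k)) := hq
  haveI : CompactSpace Y := QuasiCompact.compactSpace_of_compactSpace (Y ↘ Spec (CommRingCat.of k))
  haveI : CompactSpace X := QuasiCompact.compactSpace_of_compactSpace f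
  haveI : QuasiSeparatedSpace X := quasiSeparatedSpace_of_quasiSeparated f
  haveI : QuasiSeparatedSpace Y := quasiSeparatedSpace_of_quasiSeparated (Y ↘ Spec (CommRingCat.of k))
  have hY0 : (p : Γ(Y, ⊤)) = 0 := by
    have := congrArg (Coh.toGlobal q) (CharP.cast_eq_zero k p)
    rwa [map_natCast, map_zero] at this
  haveI := Groth.L28.EtCartan.finite_HH_structure (X := Y) (k := k) d
  let o := (oIso j)
  let ψ : Coh.HH Y (Coh.structureModule Y) d →+ Coh.HH X (Coh.structureModule X) d :=
    (Sheaf.H.map o.hom d).comp (rmap j _ d)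
  have hψ : Function.Surjective ψ := fun z => by
    obtain ⟨w, hw⟩ := surjective_rmap j hY (Coh.toAb (Coh.structureModule Y)) (Sheaf.H.map o.inv d z)
    refine ⟨w, ?_⟩
    show Sheaf.H.map o.hom d (rmap j _ d w) = z
    rw [hw, ← Sheaf.H.map_comp_apply, o.inv_hom_id, Sheaf.H.map_id_apply]
  have hc : ∀ w, ψ (frobH p Fact.out hY0 d w) = frobH p Fact.out hX d (ψ w) := fun w => by
    show Sheaf.H.map o.hom d (rmap j _ d (Sheaf.H.map (frobAb p Fact.out hY0) d w)) =
      Sheaf.H.map (frobAb p Fact.out hX) d (Sheaf.H.map o.hom d (rmap j _ d w))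
    refine (congrArg _ (rmap_map j (frobAb p Fact.out hY0) d w)).trans ?_
    exact (Sheaf.H.map_comp_apply _ _ _).symm.trans ((congrArg
      (fun φ => Sheaf.H.map φ d (rmap j (Coh.toAb (Coh.structureModule Y)) d w))
      (frob_oIso j p Fact.out hX hY0)).trans (Sheaf.H.map_comp_apply _ _ _))
  obtain ⟨w, rfl⟩ := hψ y
  obtain ⟨v, hv⟩ := Groth.L28.EtCartan.SepFrobenius.surjective p (frobH p Fact.out hY0 d)
    (Groth.L28.EtCartan.frobH_smul (k := k) p Fact.out hY0 d) w
  exact ⟨ψ v, by rw [← hc, ← map_sub]; exact congrArg ψ hv⟩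

theorem subsingleton_const (k : Type u) [Field k] [IsSepClosed k] (p : ℕ) [Fact p.Prime] [CharP k p]
    (f : X ⟶ Spec (CommRingCat.of k)) [IsSeparated f] [LocallyOfFiniteType f] [QuasiCompact f]
    (d : ℕ) (hd : topologicalKrullDim X ≤ d) (m : ℕ) (hm : d ≤ m) :
    Subsingleton (EtCoh.H X (EtCoh.const X (ZMod p)) (m + 1)) := by
  haveI := Groth.L28.EtCartan.zarCont X
  haveI : CompactSpace X := QuasiCompact.compactSpace_of_compactSpace f
  haveI : QuasiSeparatedSpace X := quasiSeparatedSpace_of_quasiSeparated f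
  haveI : SpectralSpace ↑X.toTopCat := show SpectralSpace ↥X from {}
  have hX : (p : Γ(X, ⊤)) = 0 := by
    have := congrArg (Coh.toGlobal f) (CharP.cast_eq_zero k p)
    rwa [map_natCast, map_zero] at this
  have hv : ∀ n, d < n → Subsingleton (EtCoh.H X (EtCoh.Ga X) n) := fun n hn => by
    haveI : Subsingleton (Coh.HH X (Coh.structureModule X) n) :=
      Groth.L10.Spectral.subsingleton_H (X := X.toTopCat) _ hd n hn
    obtain ⟨e⟩ := Groth.L28.EtCartan.nonempty_H_Ga (X := X) n
    exact e.toEquiv.subsingleton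
  have hsurj : Function.Surjective
      ((EtCoh.HF X m).map (W4c5etcohweilstudent.artinSchreierEndo X p Fact.out hX)) := by
    obtain ⟨e, he⟩ := Groth.L28.EtCartan.exists_H_as (X := X) p Fact.out hX m
    intro y
    rcases hm.eq_or_lt with h | h
    · subst h
      obtain ⟨x, hx⟩ := surjective_as_top k p f d hd hX (e.symm y)
      refine ⟨e x, ?_⟩
      rw [← he]
      exact (congrArg e hx).trans (e.apply_symm_apply y)
    · exact ⟨0, @Subsingleton.elim _ (hv m h) _ _⟩
  have hT := Groth.L28.EtCartan.shortExact_asSeq (X := X) p hX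
  refine subsingleton_of_forall_eq 0 fun z => ?_
  obtain ⟨w, hw⟩ := Abelian.Ext.covariant_sequence_exact₁ _ hT z
    (@Subsingleton.elim _ (hv (m + 1) (by omega)) _ _) (n₀ := m) rfl
  obtain ⟨w', hw'⟩ := hsurj w
  rw [← hw, ← hw', Groth.L27.EtSite.HF_map_apply]
  exact (Abelian.Ext.comp_assoc_of_second_deg_zero _ _ _ _).trans
    ((congrArg (fun r => Abelian.Ext.comp w' r rfl) hT.comp_extClass).trans (Abelian.Ext.comp_zero _ _ _ _ _))

end Groth.L21.TopDeg
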