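import Groth.Agent.L21.TopDeg.Model
import Groth.Agent.L16.ProperFinite
import Groth.Agent.L16.QcqsPush
import Groth.Agent.L19.FPExtend.Main
import Groth.Agent.L15.Ref.FreeLocus
import Groth.Prelude.Def_Canon

/-! # Top cohomology of coherent modules on separated schemes of finite type -/

set_option autoImplicit false
set_option linter.style.haveILetI false
set_option backward.isDefEq.respectTransparency false

universe u

open CategoryTheory CategoryTheory.Limits AlgebraicGeometry Opposite TopologicalSpace

noncomputable section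

namespace Groth.L21.TopDeg

/-- Coherent modules extend along open immersions. -/
theorem exists_coh_extend {X Y : Scheme.{u}} [AlgebraicGeometry.IsNoetherian Y] (j : X ⟶ Y) [IsOpenImmersion j]
    (F : X.Modules) (hF : Coh.IsCoh F) :
    ∃ G : Y.Modules, Coh.IsCoh G ∧ Nonempty (G.restrict j ≅ F) := by
  haveI : IsLocallyNoetherian X := isLocallyNoetherian_of_isOpenImmersion j
  haveI : QuasiCompact j := inferInstance
  let e : X ≅ (j.opensRange : Scheme.{u}) := j.isoOpensRange
  have hej : e.hom ≫ j.opensRange.ι = j := Scheme.Hom.isoOpensRange_hom_ι j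
  have hej' : e.inv ≫ j = j.opensRange.ι := by
    rw [Iso.inv_comp_eq, hej]
  haveI : Coh.IsQCoh F := hF.1
  haveI : Coh.IsQCoh ((Scheme.Modules.pushforward j).obj F) := Groth.L16.QcqsPush.isQCoh_push F j
  let P := (Scheme.Modules.pushforward j).obj F
  let εj : P.restrict j ≅ F := (asIso (Scheme.Modules.restrictAdjunction j).counit).app F
  let ι' : P.restrict j.opensRange.ι ≅ (P.restrict j).restrict e.inv :=
    (Scheme.Modules.restrictFunctorCongr hej'.symm).app P ≪≫ (Scheme.Modules.restrictFunctorComp e.inv j).app P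
  have hFP : CohB1.IsFP (P.restrict j.opensRange.ι) := by
    refine Groth.L22.Inter.FlatTwist.isFP_of_iso
      (ι' ≪≫ (Scheme.Modules.restrictFunctor e.inv).mapIso εj).symm ?_
    exact Groth.L17.Approx.isFP_restrict e.inv F (Groth.L15.Ref.isFP_of_isCoh hF)
  obtain ⟨G, φ, eG, hG, -⟩ := Groth.L19.FPExtend.exists_fp_extension P j.opensRange
    (TopologicalSpace.NoetherianSpace.isCompact _) (P.restrict j.opensRange.ι) hFP (𝟙 _)
  haveI : CohB1.IsFP G := hG
  refine ⟨G, ⟨inferInstance, inferInstance⟩, ⟨?_⟩⟩
  exact (Scheme.Modules.restrictFunctorCongr hej.symm).app G ≪≫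
    (Scheme.Modules.restrictFunctorComp e.hom j.opensRange.ι).app G ≪≫
    (Scheme.Modules.restrictFunctor e.hom).mapIso eG ≪≫
    ((Scheme.Modules.restrictFunctorCongr hej.symm).app P ≪≫
      (Scheme.Modules.restrictFunctorComp e.hom j.opensRange.ι).app P).symm ≪≫ εj

theorem finite_top (k : Type u) [Field k] {X : Scheme.{u}} [X.Over (Spec (CommRingCat.of k))]
    [IsSeparated (X ↘ Spec (CommRingCat.of k))] [LocallyOfFiniteType (X ↘ Spec (CommRingCat.of k))]
    [QuasiCompact (X ↘ Spec (CommRingCat.of k))] (F : X.Modules) (hF : Coh.IsCoh F) (d : ℕ)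
    (hd : topologicalKrullDim X ≤ d) : Module.Finite k (Coh.HH X F d) := by
  obtain ⟨Y, j, p, hj, hp, hjp, hY⟩ := exists_model k (X ↘ Spec (CommRingCat.of k)) d hd
  haveI := hj
  haveI := hp
  letI : Y.Over (Spec (CommRingCat.of k)) := ⟨p⟩
  haveI : IsProper (Y ↘ Spec (CommRingCat.of k)) := hp
  haveI : IsLocallyNoetherian Y := LocallyOfFiniteType.isLocallyNoetherian (Y ↘ Spec (CommRingCat.of k))
  haveI : CompactSpace Y := QuasiCompact.compactSpace_of_compactSpace (Y ↘ Spec (CommRingCat.of k))
  haveI : AlgebraicGeometry.IsNoetherian Y := {}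
  haveI : CompactSpace X := QuasiCompact.compactSpace_of_compactSpace (X ↘ Spec (CommRingCat.of k))
  haveI : IsLocallyNoetherian X := isLocallyNoetherian_of_isOpenImmersion j
  obtain ⟨G, hG, ⟨eG⟩⟩ := exists_coh_extend j F hF
  have hG' := Groth.L16.ProperFinite.finite_HH k hG d
  let r : Coh.HH Y G d →ₗ[k] Coh.HH X (G.restrict j) d :=
    { toFun := rmap j (Coh.toAb G) d
      map_add' := map_add _
      map_smul' := fun c x => by
        show rmap j (Coh.toAb G) d (Sheaf.H.map (Coh.smulAb G (Coh.toGlobal p c)) d x) =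
          Sheaf.H.map (Coh.smulAb (G.restrict j) (Coh.toGlobal (X ↘ Spec (CommRingCat.of k)) c)) d
            (rmap j (Coh.toAb G) d x)
        have h1 : Coh.toGlobal (X ↘ Spec (CommRingCat.of k)) c = j.appTop (Coh.toGlobal p c) := by
          rw [← hjp]
          rfl
        refine (rmap_map j (Coh.smulAb G (Coh.toGlobal p c)) d x).trans ?_
        rw [h1]
        exact congrArg (fun φ => Sheaf.H.map φ d (rmap j (Coh.toAb G) d x)) (smulAb_restrict j G _) }
  have hr : Function.Surjective r := surjective_rmap j hY (Coh.toAb G)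
  haveI : Module.Finite k (Coh.HH X (G.restrict j) d) := Module.Finite.of_surjective r hr
  refine Module.Finite.of_surjective (Canon.HHlin k eG.hom d) fun y => ⟨Canon.HHlin k eG.inv d y, ?_⟩
  show Sheaf.H.map _ d (Sheaf.H.map _ d y) = y
  rw [← Sheaf.H.map_comp_apply, ← Functor.map_comp, eG.inv_hom_id, CategoryTheory.Functor.map_id,
    Sheaf.H.map_id_apply]

end Groth.L21.TopDeg
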